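import Mathlib

/-!
# Glueing morphisms into quasi-affine schemes along `A → A[1/t]` and `A → A'`

`A/t^m → A'/t^m A'` bijective and bijectivity on `t`-power torsion: for a flat scheme `X` over `A`
a morphism to a quasi-affine scheme is the same as compatible morphisms on the two base changes.
-/

set_option autoImplicit false
set_option linter.style.haveILetI false

universe u

open CategoryTheory CategoryTheory.Limits AlgebraicGeometry TensorProduct

namespace Groth.Agent.H73.Glue

/-- The glueing hypotheses. -/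
structure GlueData (A A' : Type u) [CommRing A] [CommRing A'] [Algebra A A'] (t : A) : Prop where
  quot : ∀ m : ℕ, Function.Bijective (Ideal.quotientMap (Ideal.map (algebraMap A A') (Ideal.span {t} ^ m))
    (algebraMap A A') Ideal.le_comap_map)
  tors : ∀ a' : A', (∃ m : ℕ, algebraMap A A' t ^ m * a' = 0) →
    ∃! a : A, (∃ m : ℕ, t ^ m * a = 0) ∧ algebraMap A A' a = a'

section algebra

variable {A A' : Type u} [CommRing A] [CommRing A'] [Algebra A A'] (t : A)

/-- `A[1/t]`. -/
abbrev AT := Localization.Away t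

/-- `A'[1/t]`. -/
abbrev AT' (A' : Type u) [CommRing A'] [Algebra A A'] := Localization.Away (algebraMap A A' t)

/-- `A[1/t] → A'[1/t]`. -/
noncomputable def awayAlgHom : AT t →ₐ[A] AT' t A' where
  toRingHom := Localization.awayMap (algebraMap A A') t
  commutes' a := by
    simp only [RingHom.toMonoidHom_eq_coe, OneHom.toFun_eq_coe, MonoidHom.toOneHom_coe,
      MonoidHom.coe_coe, Localization.awayMap, IsLocalization.Away.map]
    exact (IsLocalization.map_eq _ a).trans (IsScalarTower.algebraMap_apply A A' _ a).symm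

/-- The difference map `A[1/t] × A' → A'[1/t]`. -/
noncomputable def diffMap : (AT t × A') →ₗ[A] AT' t A' :=
  (awayAlgHom t).toLinearMap ∘ₗ LinearMap.fst A _ _ -
    (IsScalarTower.toAlgHom A A' (AT' t A')).toLinearMap ∘ₗ LinearMap.snd A _ _

/-- `A → A[1/t] × A'`. -/
noncomputable def diagMap (A' : Type u) [CommRing A'] [Algebra A A'] : A →ₗ[A] (AT t × A') :=
  (Algebra.linearMap A (AT t)).prod (Algebra.linearMap A A')

variable {t}

theorem GlueData.mem_of_map_mem (h : GlueData A A' t) (m : ℕ) (a : A) (a' : A')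
    (ha : algebraMap A A' a = algebraMap A A' t ^ m * a') : ∃ c, a = t ^ m * c := by
  have hmem : Ideal.Quotient.mk (Ideal.span {t} ^ m) a = 0 := by
    apply (h.quot m).1
    rw [map_zero, Ideal.quotientMap_mk, Ideal.Quotient.eq_zero_iff_mem, ha, ← map_pow]
    exact Ideal.mul_mem_right _ _ (Ideal.mem_map_of_mem _
      (Ideal.pow_mem_pow (Ideal.mem_span_singleton_self t) m))
  rw [Ideal.Quotient.eq_zero_iff_mem, Ideal.span_singleton_pow, Ideal.mem_span_singleton] at hmem
  exact hmem

theorem GlueData.eq_zero (h : GlueData A A' t) (a : A) (m : ℕ) (hm : t ^ m * a = 0)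
    (ha : algebraMap A A' a = 0) : a = 0 :=
  (h.tors 0 ⟨0, by simp⟩).unique ⟨⟨m, hm⟩, ha⟩ ⟨⟨0, by simp⟩, map_zero _⟩

theorem diagMap_injective (h : GlueData A A' t) : Function.Injective (diagMap t A') := by
  rw [injective_iff_map_eq_zero]
  intro a ha
  obtain ⟨h1, h2⟩ := Prod.mk.inj (ha.trans Prod.zero_eq_mk)
  obtain ⟨⟨_, k, rfl⟩, hk⟩ := (IsLocalization.map_eq_zero_iff (Submonoid.powers t) (AT t) a).1 h1
  exact h.eq_zero a k hk h2

theorem exact_diag_diff (h : GlueData A A' t) : Function.Exact (diagMap t A') (diffMap (A' := A') t) := by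
  rintro ⟨x, a'⟩
  constructor
  · intro hx
    obtain ⟨⟨b, _, n, rfl⟩, hb⟩ := IsLocalization.surj (Submonoid.powers t) x
    have hx' : awayAlgHom t x = algebraMap A' (AT' t A') a' := sub_eq_zero.1 hx
    have hb' : algebraMap A' (AT' t A') (algebraMap A A' b) =
        algebraMap A' (AT' t A') (algebraMap A A' t ^ n * a') := by
      rw [map_mul, map_pow, ← hx', ← IsScalarTower.algebraMap_apply, ← IsScalarTower.algebraMap_apply,
        ← (awayAlgHom (A' := A') t).commutes b, ← (awayAlgHom (A' := A') t).commutes t, ← map_pow,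
        ← map_mul, mul_comm, ← map_pow (algebraMap A (AT t))]
      exact congrArg _ hb.symm
    obtain ⟨⟨_, k, rfl⟩, hk⟩ := (IsLocalization.eq_iff_exists
      (Submonoid.powers (algebraMap A A' t)) (AT' t A')).1 hb'
    simp only [← mul_assoc, ← pow_add] at hk
    have hk' : algebraMap A A' (t ^ k * b) = algebraMap A A' t ^ (k + n) * a' := by
      rw [map_mul, map_pow]; exact hk
    obtain ⟨c, hc⟩ := h.mem_of_map_mem (k + n) _ a' hk'
    obtain ⟨e, ⟨⟨m, hm⟩, he⟩, -⟩ := h.tors (a' - algebraMap A A' c) ⟨k + n, by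
      rw [mul_sub, sub_eq_zero, ← hk', hc, map_mul, map_pow]⟩
    have hte : t ^ (k + n) * e = 0 := by
      refine h.eq_zero _ m ?_ ?_
      · rw [← mul_assoc, mul_comm (t ^ m), mul_assoc, hm, mul_zero]
      · rw [map_mul, map_pow, he, mul_sub, sub_eq_zero, ← hk', hc, map_mul, map_pow]
    refine ⟨c + e, Prod.ext ?_ ?_⟩
    · show algebraMap A (AT t) (c + e) = x
      have hu : IsUnit (algebraMap A (AT t) t ^ (k + n)) :=
        (IsLocalization.Away.algebraMap_isUnit t).pow _
      apply hu.mul_left_cancel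
      calc algebraMap A (AT t) t ^ (k + n) * algebraMap A (AT t) (c + e)
          = algebraMap A (AT t) (t ^ (k + n) * c + t ^ (k + n) * e) := by
            rw [← mul_add, map_mul, map_pow]
        _ = algebraMap A (AT t) (t ^ k * b) := by rw [hte, add_zero, hc]
        _ = algebraMap A (AT t) t ^ (k + n) * x := by
            rw [map_mul, map_pow, ← hb, map_pow, pow_add]; ring
    · show algebraMap A A' (c + e) = a'
      rw [map_add, he, add_sub_cancel]
  · rintro ⟨a, ha⟩
    rw [← ha]
    show awayAlgHom t (algebraMap A (AT t) a) - algebraMap A' (AT' t A') (algebraMap A A' a) = 0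
    rw [AlgHom.commutes, ← IsScalarTower.algebraMap_apply, sub_self]

theorem diagMap_one : diagMap t A' 1 = (1, 1) := by
  show ((algebraMap A (AT t)) 1, (algebraMap A A') 1) = _
  rw [map_one, map_one]

variable {B : Type u} [CommRing B] [Algebra A B] [Module.Flat A B]

theorem tensor_injective (h : GlueData A A' t) (b : B)
    (h1 : (b ⊗ₜ[A] (1 : AT t)) = 0) (h2 : (b ⊗ₜ[A] (1 : A')) = 0) : b = 0 := by
  have hinj := Module.Flat.lTensor_preserves_injective_linearMap (M := B) _ (diagMap_injective h)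
  have h3 : LinearMap.lTensor B (diagMap t A') (b ⊗ₜ[A] 1) = 0 := by
    apply (TensorProduct.prodRight A A B (AT t) A').injective
    rw [LinearMap.lTensor_tmul, map_zero]
    rw [diagMap_one, TensorProduct.prodRight_tmul, h1, h2, Prod.mk_zero_zero]
  have h4 : b ⊗ₜ[A] (1 : A) = 0 := hinj (h3.trans (map_zero _).symm)
  simpa using congrArg (TensorProduct.rid A B) h4

theorem tensor_exists (h : GlueData A A' t) (x : B ⊗[A] AT t) (y : B ⊗[A] A')
    (hxy : LinearMap.lTensor B (awayAlgHom t).toLinearMap x =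
      LinearMap.lTensor B (IsScalarTower.toAlgHom A A' (AT' t A')).toLinearMap y) :
    ∃ b : B, b ⊗ₜ[A] (1 : AT t) = x ∧ b ⊗ₜ[A] (1 : A') = y := by
  have hex := Module.Flat.lTensor_exact B (exact_diag_diff h)
  let z := (TensorProduct.prodRight A A B (AT t) A').symm (x, y)
  have key : ∀ w : B ⊗[A] (AT t × A'), LinearMap.lTensor B (diffMap t) w =
      LinearMap.lTensor B (awayAlgHom t).toLinearMap (TensorProduct.prodRight A A B (AT t) A' w).1 -
      LinearMap.lTensor B (IsScalarTower.toAlgHom A A' (AT' t A')).toLinearMap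
        (TensorProduct.prodRight A A B (AT t) A' w).2 := by
    intro w
    induction w using TensorProduct.induction_on with
    | zero => simp
    | tmul c p => simp [diffMap]
    | add p q hp hq => simp only [map_add, hp, hq, Prod.fst_add, Prod.snd_add]; abel
  obtain ⟨w, hw⟩ := (hex z).1 (by rw [key, LinearEquiv.apply_symm_apply]; exact sub_eq_zero.2 hxy)
  obtain ⟨b, rfl⟩ : ∃ b : B, w = b ⊗ₜ[A] (1 : A) := ⟨TensorProduct.rid A B w,
    ((TensorProduct.rid A B).symm_apply_apply w).symm.trans (TensorProduct.rid_symm_apply _)⟩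
  have hw' := congrArg (TensorProduct.prodRight A A B (AT t) A') hw
  rw [LinearEquiv.apply_symm_apply, LinearMap.lTensor_tmul] at hw'
  rw [diagMap_one, TensorProduct.prodRight_tmul, Prod.mk.injEq] at hw'
  exact ⟨b, hw'⟩

omit [Module.Flat A B] in
/-- The points of `Spec B` come from `B ⊗ A[1/t]` or `B ⊗ A'`. -/
theorem comap_surjective (h : GlueData A A' t) (q : PrimeSpectrum B) :
    (∃ p : PrimeSpectrum (B ⊗[A] AT t),
        PrimeSpectrum.comap (algebraMap B (B ⊗[A] AT t)) p = q) ∨
      ∃ p : PrimeSpectrum (B ⊗[A] A'), PrimeSpectrum.comap (algebraMap B (B ⊗[A] A')) p = q := by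
  by_cases ht : algebraMap A B t ∈ q.asIdeal
  · right
    haveI := q.2
    let k := q.asIdeal.ResidueField
    have hqt : Function.Surjective (algebraMap A (A' ⧸ Ideal.span {algebraMap A A' t})) := by
      intro y
      obtain ⟨a', rfl⟩ := Ideal.Quotient.mk_surjective y
      obtain ⟨b, hb⟩ := (h.quot 1).2 (Ideal.Quotient.mk _ a')
      obtain ⟨a, rfl⟩ := Ideal.Quotient.mk_surjective b
      refine ⟨a, ?_⟩
      rw [Ideal.quotientMap_mk] at hb
      rw [Ideal.Quotient.eq] at hb
      simp only [pow_one, Ideal.map_span, Set.image_singleton] at hb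
      exact (Ideal.Quotient.eq (I := Ideal.span {algebraMap A A' t})).2 hb
    have hker : RingHom.ker (algebraMap A (A' ⧸ Ideal.span {algebraMap A A' t})) ≤
        RingHom.ker (algebraMap A k) := by
      intro a ha
      rw [RingHom.mem_ker] at ha ⊢
      have ha' : algebraMap A A' a ∈ Ideal.span {algebraMap A A' t} :=
        Ideal.Quotient.eq_zero_iff_mem.1 ha
      obtain ⟨c', hc'⟩ := Ideal.mem_span_singleton.1 ha'
      obtain ⟨c, rfl⟩ := h.mem_of_map_mem 1 a c' (by rw [pow_one, hc'])
      rw [IsScalarTower.algebraMap_apply A B k, map_mul, pow_one, map_mul,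
        Ideal.algebraMap_residueField_eq_zero.2 ht, zero_mul]
    let g₀ : (A' ⧸ Ideal.span {algebraMap A A' t}) →+* k :=
      (algebraMap A (A' ⧸ Ideal.span {algebraMap A A' t})).liftOfSurjective hqt ⟨algebraMap A k, hker⟩
    have hg₀ : ∀ a : A, g₀ (algebraMap A _ a) = algebraMap A k a := fun a =>
      RingHom.liftOfRightInverse_comp_apply _ _ _ _ a
    let g : A' →ₐ[A] k :=
      { g₀.comp (Ideal.Quotient.mk _) with commutes' := fun a => hg₀ a }
    let Φ : B ⊗[A] A' →ₐ[B] k := Algebra.TensorProduct.lift (Algebra.ofId B k) g fun _ _ => .all ..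
    refine ⟨PrimeSpectrum.comap Φ.toRingHom ⊥, PrimeSpectrum.ext ?_⟩
    ext b
    show Φ (algebraMap B _ b) ∈ (⊥ : Ideal k) ↔ b ∈ q.asIdeal
    rw [AlgHom.commutes, Ideal.mem_bot, Ideal.algebraMap_residueField_eq_zero]
  · left
    haveI := q.2
    let k := q.asIdeal.ResidueField
    have hu : IsUnit (algebraMap A k t) := by
      rw [isUnit_iff_ne_zero, IsScalarTower.algebraMap_apply A B k]
      exact fun h0 => ht (Ideal.algebraMap_residueField_eq_zero.1 h0)
    let g : AT t →ₐ[A] k :=
      { IsLocalization.Away.lift t hu with commutes' := fun a => IsLocalization.Away.lift_eq t hu a }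
    let Φ : B ⊗[A] AT t →ₐ[B] k := Algebra.TensorProduct.lift (Algebra.ofId B k) g fun _ _ => .all ..
    refine ⟨PrimeSpectrum.comap Φ.toRingHom ⊥, PrimeSpectrum.ext ?_⟩
    ext b
    show Φ (algebraMap B _ b) ∈ (⊥ : Ideal k) ↔ b ∈ q.asIdeal
    rw [AlgHom.commutes, Ideal.mem_bot, Ideal.algebraMap_residueField_eq_zero]

end algebra

variable {A A' : Type u} [CommRing A] [CommRing A'] [Algebra A A'] {t : A}

section affine

variable {B : Type u} [CommRing B] [Algebra A B] [Module.Flat A B]
variable {Y : Scheme.{u}} [Y.IsQuasiAffine]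

theorem hom_ext_affine (h : GlueData A A' t) (f g : Spec (.of B) ⟶ Y)
    (h1 : Spec.map (CommRingCat.ofHom (algebraMap B (B ⊗[A] AT t))) ≫ f =
      Spec.map (CommRingCat.ofHom (algebraMap B (B ⊗[A] AT t))) ≫ g)
    (h2 : Spec.map (CommRingCat.ofHom (algebraMap B (B ⊗[A] A'))) ≫ f =
      Spec.map (CommRingCat.ofHom (algebraMap B (B ⊗[A] A'))) ≫ g) : f = g := by
  rw [← cancel_mono Y.toSpecΓ]
  obtain ⟨φ, hφ⟩ : ∃ φ, f ≫ Y.toSpecΓ = Spec.map φ := ⟨_, (Spec.map_preimage _).symm⟩
  obtain ⟨ψ, hψ⟩ : ∃ ψ, g ≫ Y.toSpecΓ = Spec.map ψ := ⟨_, (Spec.map_preimage _).symm⟩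
  have e1 := congrArg (· ≫ Y.toSpecΓ) h1
  have e2 := congrArg (· ≫ Y.toSpecΓ) h2
  simp only [Category.assoc, hφ, hψ, ← Spec.map_comp] at e1 e2
  rw [hφ, hψ]
  congr 1
  ext x
  refine sub_eq_zero.1 (tensor_injective h _ ?_ ?_)
  · rw [TensorProduct.sub_tmul, sub_eq_zero]
    exact congr($(Spec.map_injective e1) x)
  · rw [TensorProduct.sub_tmul, sub_eq_zero]
    exact congr($(Spec.map_injective e2) x)

theorem exists_hom_affine (h : GlueData A A' t)
    (fU : Spec (.of (B ⊗[A] AT t)) ⟶ Y) (f' : Spec (.of (B ⊗[A] A')) ⟶ Y)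
    (hc : Spec.map (CommRingCat.ofHom (Algebra.TensorProduct.map (AlgHom.id B B) (awayAlgHom t)).toRingHom) ≫ fU =
      Spec.map (CommRingCat.ofHom (Algebra.TensorProduct.map (AlgHom.id B B)
        (IsScalarTower.toAlgHom A A' (AT' t A'))).toRingHom) ≫ f') :
    ∃ f : Spec (.of B) ⟶ Y,
      Spec.map (CommRingCat.ofHom (algebraMap B (B ⊗[A] AT t))) ≫ f = fU ∧
      Spec.map (CommRingCat.ofHom (algebraMap B (B ⊗[A] A'))) ≫ f = f' := by
  obtain ⟨φ, hφ⟩ : ∃ φ, fU ≫ Y.toSpecΓ = Spec.map φ := ⟨_, (Spec.map_preimage _).symm⟩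
  obtain ⟨ψ, hψ⟩ : ∃ ψ, f' ≫ Y.toSpecΓ = Spec.map ψ := ⟨_, (Spec.map_preimage _).symm⟩
  have e := congrArg (· ≫ Y.toSpecΓ) hc
  simp only [Category.assoc, hφ, hψ, ← Spec.map_comp] at e
  have e' := Spec.map_injective e
  have hb : ∀ x, ∃ b : B, b ⊗ₜ[A] (1 : AT t) = φ.hom x ∧ b ⊗ₜ[A] (1 : A') = ψ.hom x := fun x =>
    tensor_exists h _ _ (congr($e' x))
  choose β hβ1 hβ2 using hb
  have huniq : ∀ b b' : B, b ⊗ₜ[A] (1 : AT t) = b' ⊗ₜ[A] (1 : AT t) →
      b ⊗ₜ[A] (1 : A') = b' ⊗ₜ[A] (1 : A') → b = b' := fun b b' k1 k2 =>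
    sub_eq_zero.1 (tensor_injective h _ (by rw [TensorProduct.sub_tmul, k1, sub_self])
      (by rw [TensorProduct.sub_tmul, k2, sub_self]))
  let θ : Γ(Y, ⊤) →+* B :=
    { toFun := β
      map_one' := huniq _ _ (by rw [hβ1, map_one]; rfl) (by rw [hβ2, map_one]; rfl)
      map_mul' := fun x y => huniq _ _
        (by rw [hβ1, map_mul, ← hβ1, ← hβ1, Algebra.TensorProduct.tmul_mul_tmul, one_mul])
        (by rw [hβ2, map_mul, ← hβ2, ← hβ2, Algebra.TensorProduct.tmul_mul_tmul, one_mul])
      map_zero' := huniq _ _ (by rw [hβ1, map_zero, TensorProduct.zero_tmul])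
        (by rw [hβ2, map_zero, TensorProduct.zero_tmul])
      map_add' := fun x y => huniq _ _ (by rw [hβ1, map_add, ← hβ1, ← hβ1, TensorProduct.add_tmul])
        (by rw [hβ2, map_add, ← hβ2, ← hβ2, TensorProduct.add_tmul]) }
  let g : Spec (.of B) ⟶ Spec Γ(Y, ⊤) := Spec.map (CommRingCat.ofHom θ)
  have g1 : Spec.map (CommRingCat.ofHom (algebraMap B (B ⊗[A] AT t))) ≫ g = fU ≫ Y.toSpecΓ := by
    rw [hφ, ← Spec.map_comp]
    congr 1
    ext x
    exact hβ1 x
  have g2 : Spec.map (CommRingCat.ofHom (algebraMap B (B ⊗[A] A'))) ≫ g = f' ≫ Y.toSpecΓ := by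
    rw [hψ, ← Spec.map_comp]
    congr 1
    ext x
    exact hβ2 x
  have hrange : Set.range g ⊆ Set.range Y.toSpecΓ := by
    rintro _ ⟨q, rfl⟩
    rcases comap_surjective h q with ⟨p, rfl⟩ | ⟨p, rfl⟩
    · exact ⟨fU p, (congr($g1 p)).symm⟩
    · exact ⟨f' p, (congr($g2 p)).symm⟩
  refine ⟨IsOpenImmersion.lift Y.toSpecΓ g hrange, ?_, ?_⟩
  · rw [← cancel_mono Y.toSpecΓ, Category.assoc, IsOpenImmersion.lift_fac, g1]
  · rw [← cancel_mono Y.toSpecΓ, Category.assoc, IsOpenImmersion.lift_fac, g2]

end affine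

section scheme

variable (A A' t)

/-- `Spec A[1/t] → Spec A`. -/
noncomputable abbrev iU : Spec (.of (AT t)) ⟶ Spec (.of A) :=
  Spec.map (CommRingCat.ofHom (algebraMap A (AT t)))

/-- `Spec A' → Spec A`. -/
noncomputable abbrev i' : Spec (.of A') ⟶ Spec (.of A) :=
  Spec.map (CommRingCat.ofHom (algebraMap A A'))

variable {A A' t}
variable {Y : Scheme.{u}} [Y.IsQuasiAffine]

/-- A chart of a scheme over `Spec A` as the spectrum of an algebra. -/
theorem exists_chart {X : Scheme.{u}} (p : X ⟶ Spec (.of A)) [Flat p] (j : X.affineCover.I₀) :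
    ∃ (B : Type u) (_ : CommRing B) (_ : Algebra A B) (_ : Module.Flat A B)
      (c : Spec (.of B) ⟶ X), IsOpenImmersion c ∧ Set.range c = Set.range (X.affineCover.f j) ∧
        c ≫ p = Spec.map (CommRingCat.ofHom (algebraMap A B)) := by
  let W := X.affineCover.X j
  let e := W.isoSpec
  let c : Spec Γ(W, ⊤) ⟶ X := e.inv ≫ X.affineCover.f j
  obtain ⟨φ, hφ⟩ : ∃ φ, c ≫ p = Spec.map φ := ⟨_, (Spec.map_preimage _).symm⟩
  let inst : Algebra A Γ(W, ⊤) := φ.hom.toAlgebra
  have hflat : φ.hom.Flat := by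
    have : Flat (Spec.map φ) := hφ ▸ inferInstance
    exact (HasRingHomProperty.Spec_iff (P := @Flat)).1 this
  refine ⟨Γ(W, ⊤), inferInstance, inst, hflat, c, inferInstance, ?_, hφ⟩
  show Set.range (e.inv ≫ X.affineCover.f j) = _
  rw [Scheme.Hom.comp_base, TopCat.coe_comp, Set.range_comp,
    Set.range_eq_univ.2 e.inv.surjective, Set.image_univ]

theorem hom_ext (h : GlueData A A' t) {X : Scheme.{u}} (p : X ⟶ Spec (.of A)) [Flat p]
    (f g : X ⟶ Y) (h1 : pullback.fst p (iU A t) ≫ f = pullback.fst p (iU A t) ≫ g)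
    (h2 : pullback.fst p (i' A A') ≫ f = pullback.fst p (i' A A') ≫ g) : f = g := by
  choose B _ _ _ c hc hr hp using exists_chart p
  haveI := hc
  let 𝒱 : X.OpenCover := Scheme.Cover.mkOfCovers X.affineCover.I₀ (fun j => Spec (.of (B j))) c
    (fun x => by
      obtain ⟨j, y, hy⟩ := X.affineCover.exists_eq x
      obtain ⟨z, hz⟩ : x ∈ Set.range (c j) := (hr j).symm ▸ ⟨y, hy⟩
      exact ⟨j, z, hz⟩) hc
  refine 𝒱.hom_ext _ _ fun j => hom_ext_affine h _ _ ?_ ?_
  · have hl : (Spec.map (CommRingCat.ofHom (algebraMap (B j) (B j ⊗[A] AT t))) ≫ c j) ≫ p =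
        Spec.map (CommRingCat.ofHom (Algebra.TensorProduct.includeRight :
          AT t →ₐ[A] B j ⊗[A] AT t).toRingHom) ≫ iU A t := by
      rw [Category.assoc, hp, ← Spec.map_comp, ← Spec.map_comp]
      congr 1
      ext a
      exact ((IsScalarTower.algebraMap_apply A (B j) (B j ⊗[A] AT t) a).symm).trans
        (Algebra.TensorProduct.includeRight.commutes a).symm
    have := congrArg (pullback.lift _ _ hl ≫ ·) h1
    simp only [pullback.lift_fst_assoc, Category.assoc] at this
    exact this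
  · have hl : (Spec.map (CommRingCat.ofHom (algebraMap (B j) (B j ⊗[A] A'))) ≫ c j) ≫ p =
        Spec.map (CommRingCat.ofHom (Algebra.TensorProduct.includeRight :
          A' →ₐ[A] B j ⊗[A] A').toRingHom) ≫ i' A A' := by
      rw [Category.assoc, hp, ← Spec.map_comp, ← Spec.map_comp]
      congr 1
      ext a
      exact ((IsScalarTower.algebraMap_apply A (B j) (B j ⊗[A] A') a).symm).trans
        (Algebra.TensorProduct.includeRight.commutes a).symm
    have := congrArg (pullback.lift _ _ hl ≫ ·) h2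
    simp only [pullback.lift_fst_assoc, Category.assoc] at this
    exact this

/-- Glueing. -/
theorem exists_glue (h : GlueData A A' t) {X : Scheme.{u}} (p : X ⟶ Spec (.of A)) [Flat p]
    (fU : pullback p (iU A t) ⟶ Y) (f' : pullback p (i' A A') ⟶ Y)
    (hc : ∀ (T : Scheme.{u}) (x : T ⟶ X) (k : T ⟶ Spec (.of (AT' t A')))
      (hx : x ≫ p = (k ≫ Spec.map (CommRingCat.ofHom (awayAlgHom t).toRingHom)) ≫ iU A t)
      (hx' : x ≫ p = (k ≫ Spec.map (CommRingCat.ofHom (algebraMap A' (AT' t A')))) ≫ i' A A'),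
      pullback.lift x _ hx ≫ fU = pullback.lift x _ hx' ≫ f') :
    ∃ f : X ⟶ Y, pullback.fst p (iU A t) ≫ f = fU ∧ pullback.fst p (i' A A') ≫ f = f' := by
  choose B _ _ _ c hcimm hr hp using exists_chart p
  haveI := hcimm
  let 𝒱 : X.OpenCover := Scheme.Cover.mkOfCovers X.affineCover.I₀ (fun j => Spec (.of (B j))) c
    (fun x => by
      obtain ⟨j, y, hy⟩ := X.affineCover.exists_eq x
      obtain ⟨z, hz⟩ : x ∈ Set.range (c j) := (hr j).symm ▸ ⟨y, hy⟩
      exact ⟨j, z, hz⟩) hcimm
  have hlU : ∀ j, (Spec.map (CommRingCat.ofHom (algebraMap (B j) (B j ⊗[A] AT t))) ≫ c j) ≫ p =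
      Spec.map (CommRingCat.ofHom (Algebra.TensorProduct.includeRight :
        AT t →ₐ[A] B j ⊗[A] AT t).toRingHom) ≫ iU A t := fun j => by
    rw [Category.assoc, hp, ← Spec.map_comp, ← Spec.map_comp]
    congr 1
    ext a
    exact ((IsScalarTower.algebraMap_apply A (B j) (B j ⊗[A] AT t) a).symm).trans
      (Algebra.TensorProduct.includeRight.commutes a).symm
  have hl' : ∀ j, (Spec.map (CommRingCat.ofHom (algebraMap (B j) (B j ⊗[A] A'))) ≫ c j) ≫ p =
      Spec.map (CommRingCat.ofHom (Algebra.TensorProduct.includeRight :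
        A' →ₐ[A] B j ⊗[A] A').toRingHom) ≫ i' A A' := fun j => by
    rw [Category.assoc, hp, ← Spec.map_comp, ← Spec.map_comp]
    congr 1
    ext a
    exact ((IsScalarTower.algebraMap_apply A (B j) (B j ⊗[A] A') a).symm).trans
      (Algebra.TensorProduct.includeRight.commutes a).symm
  have hloc : ∀ j, ∃ f : Spec (.of (B j)) ⟶ Y,
      Spec.map (CommRingCat.ofHom (algebraMap (B j) (B j ⊗[A] AT t))) ≫ f =
        pullback.lift _ _ (hlU j) ≫ fU ∧
      Spec.map (CommRingCat.ofHom (algebraMap (B j) (B j ⊗[A] A'))) ≫ f =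
        pullback.lift _ _ (hl' j) ≫ f' := fun j => by
    refine exists_hom_affine h _ _ ?_
    let K := B j ⊗[A] AT' t A'
    let x : Spec (.of K) ⟶ X := Spec.map (CommRingCat.ofHom (algebraMap (B j) K)) ≫ c j
    let k : Spec (.of K) ⟶ Spec (.of (AT' t A')) := Spec.map (CommRingCat.ofHom
      (Algebra.TensorProduct.includeRight : AT' t A' →ₐ[A] K).toRingHom)
    have hk : x ≫ p = k ≫ Spec.map (CommRingCat.ofHom (algebraMap A (AT' t A'))) := by
      simp only [x, k, Category.assoc, hp, ← Spec.map_comp]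
      congr 1
      ext a
      exact ((IsScalarTower.algebraMap_apply A (B j) K a).symm).trans
        (Algebra.TensorProduct.includeRight.commutes a).symm
    have hx : x ≫ p = (k ≫ Spec.map (CommRingCat.ofHom (awayAlgHom t).toRingHom)) ≫ iU A t := by
      rw [hk, Category.assoc]
      congr 1
      rw [← Spec.map_comp]
      congr 1
      ext a
      exact ((awayAlgHom (A' := A') t).commutes a).symm
    have hx' : x ≫ p = (k ≫ Spec.map (CommRingCat.ofHom (algebraMap A' (AT' t A')))) ≫ i' A A' := by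
      rw [hk, Category.assoc]
      congr 1
      rw [← Spec.map_comp]
      rfl
    have key := hc _ x k hx hx'
    rw [← Category.assoc, ← Category.assoc]
    convert key using 2
    · apply pullback.hom_ext
      · simp only [Category.assoc, pullback.lift_fst, x, ← Spec.map_comp_assoc]
        congr 1
        congr 1
        ext b
        exact AlgHom.commutes (Algebra.TensorProduct.map (AlgHom.id (B j) (B j)) (awayAlgHom (A' := A') t)) b
      · simp only [Category.assoc, pullback.lift_snd, k, ← Spec.map_comp]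
        rfl
    · apply pullback.hom_ext
      · simp only [Category.assoc, pullback.lift_fst, x, ← Spec.map_comp_assoc]
        congr 1
        congr 1
        ext b
        exact AlgHom.commutes (Algebra.TensorProduct.map (AlgHom.id (B j) (B j))
          (IsScalarTower.toAlgHom A A' (AT' t A'))) b
      · simp only [Category.assoc, pullback.lift_snd, k, ← Spec.map_comp]
        rfl
  choose f hf1 hf2 using hloc
  -- compatibility of the pieces on the charts
  have hU : ∀ (j : X.affineCover.I₀) {T : Scheme.{u}} (y : T ⟶ Spec (.of (B j)))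
      (k : T ⟶ Spec (.of (AT t))) (hy : (y ≫ c j) ≫ p = k ≫ iU A t),
      y ≫ f j = pullback.lift (y ≫ c j) k hy ≫ fU := by
    intro j T y k hy
    let l : T ⟶ Spec (.of (B j ⊗[A] AT t)) :=
      pullback.lift y k (by rw [← hp j, ← Category.assoc]; exact hy) ≫
        (pullbackSpecIso A (B j) (AT t)).hom
    have hl1 : l ≫ Spec.map (CommRingCat.ofHom (algebraMap (B j) (B j ⊗[A] AT t))) = y := by
      simp only [l, Category.assoc, pullbackSpecIso_hom_fst', pullback.lift_fst]
    have hl2 : l ≫ Spec.map (CommRingCat.ofHom (Algebra.TensorProduct.includeRight :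
        AT t →ₐ[A] B j ⊗[A] AT t).toRingHom) = k := by
      simp only [l, Category.assoc]
      exact (congrArg (_ ≫ ·) (pullbackSpecIso_hom_snd A (B j) (AT t))).trans (pullback.lift_snd _ _ _)
    conv_lhs => rw [← hl1, Category.assoc, hf1, ← Category.assoc]
    congr 1
    apply pullback.hom_ext
    · rw [Category.assoc, pullback.lift_fst, pullback.lift_fst, ← Category.assoc, hl1]
    · rw [Category.assoc, pullback.lift_snd, pullback.lift_snd, hl2]
  have h' : ∀ (j : X.affineCover.I₀) {T : Scheme.{u}} (y : T ⟶ Spec (.of (B j)))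
      (k : T ⟶ Spec (.of A')) (hy : (y ≫ c j) ≫ p = k ≫ i' A A'),
      y ≫ f j = pullback.lift (y ≫ c j) k hy ≫ f' := by
    intro j T y k hy
    let l : T ⟶ Spec (.of (B j ⊗[A] A')) :=
      pullback.lift y k (by rw [← hp j, ← Category.assoc]; exact hy) ≫
        (pullbackSpecIso A (B j) A').hom
    have hl1 : l ≫ Spec.map (CommRingCat.ofHom (algebraMap (B j) (B j ⊗[A] A'))) = y := by
      simp only [l, Category.assoc, pullbackSpecIso_hom_fst', pullback.lift_fst]
    have hl2 : l ≫ Spec.map (CommRingCat.ofHom (Algebra.TensorProduct.includeRight :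
        A' →ₐ[A] B j ⊗[A] A').toRingHom) = k := by
      simp only [l, Category.assoc]
      exact (congrArg (_ ≫ ·) (pullbackSpecIso_hom_snd A (B j) A')).trans (pullback.lift_snd _ _ _)
    conv_lhs => rw [← hl1, Category.assoc, hf2, ← Category.assoc]
    congr 1
    apply pullback.hom_ext
    · rw [Category.assoc, pullback.lift_fst, pullback.lift_fst, ← Category.assoc, hl1]
    · rw [Category.assoc, pullback.lift_snd, pullback.lift_snd, hl2]
  have hov : ∀ i j, pullback.fst (c i) (c j) ≫ f i = pullback.snd (c i) (c j) ≫ f j := by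
    intro i j
    haveI : Flat ((pullback.fst (c i) (c j) ≫ c i) ≫ p) := inferInstance
    refine hom_ext h ((pullback.fst (c i) (c j) ≫ c i) ≫ p) _ _ ?_ ?_
    · have e : ((pullback.fst _ (iU A t) ≫ pullback.fst (c i) (c j)) ≫ c i) ≫ p =
          pullback.snd ((pullback.fst (c i) (c j) ≫ c i) ≫ p) (iU A t) ≫ iU A t := by
        rw [← pullback.condition]; simp only [Category.assoc]
      rw [← Category.assoc, ← Category.assoc, hU i _ _ e,
        hU j _ (pullback.snd ((pullback.fst (c i) (c j) ≫ c i) ≫ p) (iU A t))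
          (by rw [← e]; simp only [Category.assoc, pullback.condition_assoc])]
      congr 1
      apply pullback.hom_ext <;> simp [pullback.condition]
    · have e : ((pullback.fst _ (i' A A') ≫ pullback.fst (c i) (c j)) ≫ c i) ≫ p =
          pullback.snd ((pullback.fst (c i) (c j) ≫ c i) ≫ p) (i' A A') ≫ i' A A' := by
        rw [← pullback.condition]; simp only [Category.assoc]
      rw [← Category.assoc, ← Category.assoc, h' i _ _ e,
        h' j _ (pullback.snd ((pullback.fst (c i) (c j) ≫ c i) ≫ p) (i' A A'))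
          (by rw [← e]; simp only [Category.assoc, pullback.condition_assoc])]
      congr 1
      apply pullback.hom_ext <;> simp [pullback.condition]
  refine ⟨𝒱.glueMorphisms f hov, ?_, ?_⟩
  · refine Scheme.Cover.hom_ext (𝒱.pullback₁ (pullback.fst p (iU A t))) _ _ fun j => ?_
    show pullback.fst (pullback.fst p (iU A t)) (c j) ≫ pullback.fst p (iU A t) ≫ _ = _
    rw [pullback.condition_assoc, show c j ≫ 𝒱.glueMorphisms f hov = f j from 𝒱.ι_glueMorphisms f hov j]
    rw [hU j _ (pullback.fst (pullback.fst p (iU A t)) (c j) ≫ pullback.snd p (iU A t))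
      (by rw [← pullback.condition, Category.assoc, Category.assoc, pullback.condition])]
    congr 1
    apply pullback.hom_ext
    · rw [pullback.lift_fst]
      exact (pullback.condition (f := pullback.fst p _) (g := c j)).symm
    · rw [pullback.lift_snd]
      rfl
  · refine Scheme.Cover.hom_ext (𝒱.pullback₁ (pullback.fst p (i' A A'))) _ _ fun j => ?_
    show pullback.fst (pullback.fst p (i' A A')) (c j) ≫ pullback.fst p (i' A A') ≫ _ = _
    rw [pullback.condition_assoc, show c j ≫ 𝒱.glueMorphisms f hov = f j from 𝒱.ι_glueMorphisms f hov j]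
    rw [h' j _ (pullback.fst (pullback.fst p (i' A A')) (c j) ≫ pullback.snd p (i' A A'))
      (by rw [← pullback.condition, Category.assoc, Category.assoc, pullback.condition])]
    congr 1
    apply pullback.hom_ext
    · rw [pullback.lift_fst]
      exact (pullback.condition (f := pullback.fst p _) (g := c j)).symm
    · rw [pullback.lift_snd]
      rfl

end scheme

end Groth.Agent.H73.Glue
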