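import Groth.Agent.S1127
import Groth.Agent.S2339
import Groth.Agent.Lib.TorsorSch.Basic

/-!
# Torsors under quasi-affine group schemes over an affine base are quasi-affine
-/

set_option autoImplicit false
set_option linter.style.haveILetI false

universe u

open CategoryTheory CategoryTheory.Limits MonoidalCategory CartesianMonoidalCategory AlgebraicGeometry

namespace Groth.Agent.H73.Glue

theorem isQuasiAffine_hom {X S : Scheme.{u}} [IsAffine S] [X.IsQuasiAffine] (f : X ⟶ S) :
    Mor2.IsQuasiAffine f := by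
  have : QuasiCompact f := (quasiCompact_iff_compactSpace f).mpr inferInstance
  refine ⟨this, fun V hV => ?_⟩
  haveI : CompactSpace (f ⁻¹ᵁ V : X.Opens).toScheme :=
    isCompact_iff_compactSpace.mp (f.isCompact_preimage hV.isCompact)
  exact Scheme.IsQuasiAffine.of_isImmersion (f ⁻¹ᵁ V).ι

/-- An fpqc covering of an affine scheme is dominated by one faithfully flat affine morphism. -/
theorem exists_affine_refinement {S : Scheme.{u}} [IsAffine S] {R : Presieve S}
    (hR : R ∈ Scheme.fpqcPrecoverage S) :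
    ∃ (T : Scheme.{u}) (q : T ⟶ S), IsAffine T ∧ Surjective q ∧ Flat q ∧ QuasiCompact q ∧
      ∀ (X : Over S), (∀ ⦃S' : Scheme.{u}⦄ (g : S' ⟶ S), R g → NonAbH1.HasSectionOver X g) →
        NonAbH1.HasSectionOver X q := by
  obtain ⟨𝒰, _, rfl⟩ := Scheme.mem_propQCPrecoverage_iff_exists_quasiCompactCover.mp hR
  obtain ⟨n, f, V, hV, hVU⟩ :=
    QuasiCompactCover.exists_isAffineOpen_of_isCompact (𝒰 := 𝒰.toPreZeroHypercover)
      (hU := (isAffineOpen_top S).isCompact)
  let W : Fin n → Scheme.{u} := fun i ↦ (V i : Scheme.{u})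
  have : ∀ i, IsAffine (W i) := fun i ↦ hV i
  let p : ∐ W ⟶ S := Sigma.desc fun i ↦ (V i).ι ≫ 𝒰.f (f i)
  have hp : Flat p := by
    have : ∀ i, Flat (𝒰.f (f i)) := fun i ↦ 𝒰.map_prop _
    infer_instance
  refine ⟨∐ W, p, inferInstance, ⟨fun x => ?_⟩, hp, (quasiCompact_iff_compactSpace p).mpr inferInstance,
    fun X hX => ?_⟩
  · have hx : x ∈ (⋃ i, 𝒰.f (f i) '' (V i : Set _)) := by
      rw [hVU]; trivial
    obtain ⟨i, z, hz, rfl⟩ := Set.mem_iUnion.1 hx
    exact ⟨Sigma.ι W i ⟨z, hz⟩, congr($(Sigma.ι_desc (fun i ↦ (V i).ι ≫ 𝒰.f (f i)) i) ⟨z, hz⟩)⟩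
  · choose s hs using fun i => hX (𝒰.f (f i)) (Presieve.ofArrows.mk (f i))
    refine ⟨Sigma.desc fun i => (V i).ι ≫ s i, Limits.Sigma.hom_ext _ _ fun i => ?_⟩
    rw [Sigma.ι_desc_assoc, Category.assoc, hs]
    exact (Sigma.ι_desc (fun i ↦ (V i).ι ≫ 𝒰.f (f i)) i).symm

variable {S : Scheme.{u}} [IsAffine S] {G : Over S} [GrpObj G] [Flat G.hom] [G.left.IsQuasiAffine]

/-- A torsor under a flat quasi-affine group scheme over an affine base is flat and quasi-affine. -/
theorem torsor_flat_quasiAffine (P : NonAbH1.TorsorSch G Scheme.fppfPrecoverage) :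
    Flat P.X.hom ∧ P.X.left.IsQuasiAffine := by
  obtain ⟨hpt, R, hR, hs⟩ := P.isTorsor
  obtain ⟨T, q, _, hq1, hq2, hq3, hT⟩ :=
    exists_affine_refinement (Scheme.fppfPrecoverage_le_fpqcPrecoverage _ hR)
  obtain ⟨s, hs'⟩ := hT P.X hs
  let σ : Over.mk q ⟶ P.X := Over.homMk s hs'
  haveI := Lib.TorsorSch.Basic.isIso_triv P.act hpt σ
  haveI : IsIso (Lib.TorsorSch.Basic.triv P.act σ).left :=
    (inferInstance : IsIso ((Over.forget S).map (Lib.TorsorSch.Basic.triv P.act σ)))
  have key : (Lib.TorsorSch.Basic.triv P.act σ).left ≫ pullback.snd P.X.hom q = pullback.snd G.hom q :=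
    congrArg CommaMorphism.left (Lib.TorsorSch.Basic.triv_snd P.act σ)
  have hQ : (@Surjective ⊓ @Flat ⊓ @QuasiCompact : MorphismProperty Scheme.{u}) q := ⟨⟨hq1, hq2⟩, hq3⟩
  constructor
  · refine MorphismProperty.of_pullback_snd_of_descendsAlong (P := @Flat)
      (Q := @Surjective ⊓ @Flat ⊓ @QuasiCompact) hQ ?_
    rw [← MorphismProperty.cancel_left_of_respectsIso @Flat (Lib.TorsorSch.Basic.triv P.act σ).left, key]
    infer_instance
  · have hq4 : Mor2.IsQuasiAffine P.X.hom := by
      haveI := Groth.Agent.S1127.result.{u}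
      refine MorphismProperty.of_pullback_snd_of_descendsAlong
        (P := fun _ _ f => Mor2.IsQuasiAffine f)
        (Q := @Surjective ⊓ @Flat ⊓ @QuasiCompact) hQ ?_
      have h1 : Mor2.IsQuasiAffine (pullback.snd G.hom q) :=
        Groth.Agent.S2339.result G.hom (isQuasiAffine_hom G.hom) q
      have h2 := h1.2 ⊤ (isAffineOpen_top T)
      haveI : (pullback G.hom q).IsQuasiAffine := by
        haveI := h2
        haveI : CompactSpace ↥(pullback G.hom q) := by
          haveI := h1.1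
          exact QuasiCompact.compactSpace_of_compactSpace (pullback.snd G.hom q)
        exact Scheme.IsQuasiAffine.of_isImmersion
          (Y := ((pullback.snd G.hom q ⁻¹ᵁ ⊤ : (pullback G.hom q).Opens) : Scheme.{u}))
          (Scheme.topIso (pullback G.hom q)).inv
      haveI : (G ⊗ Over.mk q).left.IsQuasiAffine := ‹(pullback G.hom q).IsQuasiAffine›
      haveI : CompactSpace ↥(G ⊗ Over.mk q).left := inferInstance
      haveI : (pullback P.X.hom q).IsQuasiAffine := by
        haveI : CompactSpace ↥(pullback P.X.hom q) :=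
          (Scheme.Hom.homeomorph (Lib.TorsorSch.Basic.triv P.act σ).left).compactSpace
        exact Scheme.IsQuasiAffine.of_isImmersion (inv (Lib.TorsorSch.Basic.triv P.act σ).left)
      exact isQuasiAffine_hom _
    haveI := hq4.1
    haveI := hq4.2 ⊤ (isAffineOpen_top S)
    haveI : CompactSpace ↥P.X.left := QuasiCompact.compactSpace_of_compactSpace P.X.hom
    exact Scheme.IsQuasiAffine.of_isImmersion (Y := ((P.X.hom ⁻¹ᵁ ⊤ : P.X.left.Opens) : Scheme.{u}))
      (Scheme.topIso P.X.left).inv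

end Groth.Agent.H73.Glue
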